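import Groth.Agent.SmoothRed.Basic
import Mathlib.AlgebraicGeometry.Morphisms.Smooth
import Mathlib.AlgebraicGeometry.Properties

/-!
# Schemes smooth over a reduced affine scheme are reduced
-/

universe u

open CategoryTheory AlgebraicGeometry

namespace Groth.Agent.SmoothRed

theorem isReduced_of_smooth_scheme {X : Scheme.{u}} {R : CommRingCat.{u}} [_root_.IsReduced R]
    (f : X ⟶ Spec R) [Smooth f] : IsReduced X := by
  have hU : ∀ U : X.affineOpens, _root_.IsReduced Γ(X, U) := fun U => by
    let φ := f.appLE ⊤ U.1 (by simp)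
    letI := φ.hom.toAlgebra
    haveI : Algebra.Smooth Γ(Spec R, ⊤) Γ(X, U) :=
      RingHom.smooth_algebraMap.1 (HasRingHomProperty.appLE @Smooth f ‹_› ⟨⊤, isAffineOpen_top _⟩ U _)
    haveI : _root_.IsReduced Γ(Spec R, ⊤) := IsReduced.component_reduced _
    exact Groth.Agent.SmoothRed.isReduced_of_smooth Γ(Spec R, ⊤) _
  apply +allowSynthFailures @IsReduced.of_openCover (𝒰 := X.affineCover)
  intro i
  haveI := hU ⟨(X.affineCover.f i).opensRange, isAffineOpen_opensRange _⟩
  haveI : IsReduced (X.affineCover.f i).opensRange.toScheme := by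
    haveI : IsAffine (X.affineCover.f i).opensRange.toScheme := isAffineOpen_opensRange _
    haveI : _root_.IsReduced Γ((X.affineCover.f i).opensRange.toScheme, ⊤) :=
      isReduced_of_injective _ ((X.affineCover.f i).opensRange.topIso.commRingCatIsoToRingEquiv.injective)
    exact isReduced_of_isAffine_isReduced _
  exact isReduced_of_isOpenImmersion (X.affineCover.f i).isoOpensRange.hom

end Groth.Agent.SmoothRed
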