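import Mathlib

set_option autoImplicit false
universe u

open TensorProduct

namespace Groth.Agent.SmoothRed

/-- A smooth algebra over a field is reduced. -/
theorem isReduced_of_field (K T : Type u) [Field K] [CommRing T] [Algebra K T] [Algebra.Smooth K T] :
    IsReduced T := by
  refine ⟨fun x hx => ?_⟩
  by_contra hx0
  have hne : Ideal.torsionOf T T x ≠ ⊤ := fun h => hx0 (by
    have h1 : (1 : T) ∈ Ideal.torsionOf T T x := h ▸ trivial
    simpa [Ideal.mem_torsionOf_iff] using h1)
  obtain ⟨m, hm, hle⟩ := Ideal.exists_le_maximal _ hne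
  haveI := hm.isPrime
  haveI : Algebra.IsSmoothAt K m := inferInstance
  obtain ⟨f, hf, hstd⟩ := Algebra.IsSmoothAt.exists_notMem_isStandardSmooth (R := K) m
  obtain ⟨n, g, hg1, hg⟩ := RingHom.IsStandardSmooth.exists_etale_mvPolynomial
    (f := algebraMap K (Localization.Away f)) (RingHom.isStandardSmooth_algebraMap.mpr hstd)
  letI := g.toAlgebra
  haveI hetale : Algebra.Etale (MvPolynomial (Fin n) K) (Localization.Away f) := hg
  set P := MvPolynomial (Fin n) K
  haveI : IsReduced (FractionRing P ⊗[P] Localization.Away f) :=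
    Algebra.FormallyUnramified.isReduced_of_field (FractionRing P) _
  have hinj : Function.Injective (Algebra.TensorProduct.includeRight :
      Localization.Away f →ₐ[P] FractionRing P ⊗[P] Localization.Away f) :=
    Algebra.TensorProduct.includeRight_injective (IsFractionRing.injective P (FractionRing P))
  haveI : IsReduced (Localization.Away f) := isReduced_of_injective _ hinj
  have h0 : algebraMap T (Localization.Away f) x = 0 := (hx.map _).eq_zero
  obtain ⟨⟨a, j, rfl⟩, ha⟩ := (IsLocalization.map_eq_zero_iff (Submonoid.powers f) _ x).mp h0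
  exact hf (hm.isPrime.mem_of_pow_mem j (hle ((Ideal.mem_torsionOf_iff _ _).mpr ha)))

/-- A smooth algebra over a reduced noetherian ring is reduced. -/
theorem isReduced_of_noetherian (R T : Type u) [CommRing R] [IsNoetherianRing R] [IsReduced R]
    [CommRing T] [Algebra R T] [Algebra.Smooth R T] : IsReduced T := by
  classical
  haveI : Finite (minimalPrimes R) := (minimalPrimes.finite_of_isNoetherianRing R).to_subtype
  haveI := fun p : minimalPrimes R => p.2.1.1
  let κ : minimalPrimes R → Type u := fun p => (p.1).ResidueField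
  let Φ : R →ₐ[R] (∀ p, κ p) := Algebra.ofId R _
  have hΦ : Function.Injective Φ := by
    rw [injective_iff_map_eq_zero]
    intro r hr
    refine IsNilpotent.eq_zero ?_
    rw [← mem_nilradical, nilradical, ← Ideal.sInf_minimalPrimes, Submodule.mem_sInf]
    intro q hq
    haveI := hq.1.1
    exact Ideal.algebraMap_residueField_eq_zero.mp (congrFun hr ⟨q, hq⟩)
  have h1 : Function.Injective (Algebra.TensorProduct.map (AlgHom.id R T) Φ) :=
    Module.Flat.lTensor_preserves_injective_linearMap Φ.toLinearMap hΦ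
  haveI hred : ∀ p, IsReduced (T ⊗[R] κ p) := fun p => by
    haveI : Algebra.Smooth (κ p) (κ p ⊗[R] T) := inferInstance
    haveI := isReduced_of_field (κ p) (κ p ⊗[R] T)
    exact isReduced_of_injective (Algebra.TensorProduct.comm R T (κ p))
      (Algebra.TensorProduct.comm R T (κ p)).injective
  haveI : Fintype (minimalPrimes R) := Fintype.ofFinite _
  haveI : IsReduced (T ⊗[R] (∀ p, κ p)) :=
    isReduced_of_injective (Algebra.TensorProduct.piRight R R T κ)
      (Algebra.TensorProduct.piRight R R T κ).injective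
  refine isReduced_of_injective ((Algebra.TensorProduct.map (AlgHom.id R T) Φ).comp
    (Algebra.TensorProduct.rid R R T).symm.toAlgHom) (h1.comp (Algebra.TensorProduct.rid R R T).symm.injective)

theorem isReduced_of_smooth (R S : Type u) [CommRing R] [CommRing S] [Algebra R S]
    [Algebra.Smooth R S] [IsReduced R] : IsReduced S := by
  classical
  obtain ⟨R₀, S₀, _, _, hfg, hsm, ⟨e⟩⟩ := Algebra.Smooth.exists_subalgebra_fg ℤ R S
  refine ⟨fun z hz => ?_⟩
  obtain ⟨n, hn⟩ := hz.map e
  apply e.injective
  rw [map_zero]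
  generalize e z = x at hn
  obtain ⟨s, hs⟩ := TensorProduct.exists_finset x
  let R₁ : Subalgebra R₀ R := Algebra.adjoin R₀ ((s.image Prod.fst : Finset R) : Set R)
  haveI : Algebra.FiniteType R₀ R₁ := (Subalgebra.fg_iff_finiteType R₁).mp ⟨s.image Prod.fst, rfl⟩
  haveI : Algebra.FiniteType ℤ R₀ := (Subalgebra.fg_iff_finiteType R₀).mp hfg
  haveI : IsNoetherianRing R₀ := Algebra.FiniteType.isNoetherianRing ℤ R₀
  haveI : IsNoetherianRing R₁ := Algebra.FiniteType.isNoetherianRing R₀ R₁
  haveI : IsReduced R₁ := isReduced_of_injective R₁.val Subtype.val_injective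
  haveI : IsReduced (R₁ ⊗[R₀] S₀) := isReduced_of_noetherian R₁ (R₁ ⊗[R₀] S₀)
  let F : R₁ ⊗[R₀] S₀ →ₐ[R₀] R ⊗[R₀] S₀ := Algebra.TensorProduct.map R₁.val (AlgHom.id R₀ S₀)
  have hF : Function.Injective F :=
    Module.Flat.rTensor_preserves_injective_linearMap R₁.val.toLinearMap Subtype.val_injective
  let y : R₁ ⊗[R₀] S₀ := ∑ q ∈ s.attach,
    (⟨q.1.1, Algebra.subset_adjoin (by simpa using ⟨q.1.2, q.2⟩)⟩ : R₁) ⊗ₜ[R₀] q.1.2
  have hy : F y = x := by
    rw [hs]
    simp only [y, map_sum]
    rw [← Finset.sum_attach s fun q : R × S₀ => q.1 ⊗ₜ[R₀] q.2]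
    rfl
  have : y = 0 := IsNilpotent.eq_zero ⟨n, hF (by rw [map_pow, hy, hn, map_zero])⟩
  rw [← hy, this, map_zero]

end Groth.Agent.SmoothRed
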